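import Cfsg.Agent.Lib.Leech.ConfigM
import Cfsg.Agent.Lib.Leech.ConfigH
import Cfsg.Agent.Lib.PermComp.OutP.Master2

/-!
# Permutation models of the stabilisers in the automorphism group of the lattice

A list of lattice vectors closed under a stabiliser `FixG R` gives a homomorphism to a symmetric
group of the indices; words in the generators of the lattice group act on indices by tables
checked by the kernel.  The orders of the stabilisers come from orbit-stabiliser.
-/

set_option autoImplicit false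

namespace Cfsg.Agent.Lib.PermComp.Conway

open Cfsg Cfsg.Agent.Lib.Golay.Core Cfsg.Agent.Lib.Leech.Basic Cfsg.Agent.Lib.Leech.Vec
  Cfsg.Agent.Lib.Leech.Cert Cfsg.Agent.Lib.Leech.CertData Cfsg.Agent.Lib.Leech.CertBase
  Cfsg.Agent.Lib.Leech.CertLev Cfsg.Agent.Lib.Leech.Word
  Cfsg.Agent.Lib.Leech.Lat Cfsg.Agent.Lib.Leech.Reach Cfsg.Agent.Lib.Leech.Order
  Cfsg.Agent.Lib.Leech.Trans Cfsg.Agent.Lib.Leech.ConfigB
open Cfsg.Agent.Lib.PermComp.OutP

/-! ### The points of a list of chunks -/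

/-- The point number `j` of a list of chunks. -/
def ptL : List Chunk → ℕ → ℕ
  | [], _ => 0
  | e :: L, j => cond (Nat.blt j e.2.1) (xOf e.1 j) (ptL L (Nat.sub j e.2.1))

section ptL

variable {P : ℕ → ℕ → Bool}

theorem ptL_cons_lt (e : Chunk) (L : List Chunk) {j : ℕ} (h : j < e.2.1) :
    ptL (e :: L) j = xOf e.1 j := by
  have : Nat.blt j e.2.1 = true := by simpa using h
  simp [ptL, this]

theorem ptL_cons_ge (e : Chunk) (L : List Chunk) {j : ℕ} (h : e.2.1 ≤ j) :
    ptL (e :: L) j = ptL L (j - e.2.1) := by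
  have : Nat.blt j e.2.1 = false := by
    cases h2 : Nat.blt j e.2.1 with
    | false => rfl
    | true =>
      have h3 : j < e.2.1 := by simpa using h2
      omega
  simp only [ptL, this, cond_false]
  rfl

theorem ptL_mem {L : List Chunk} {j : ℕ} (hj : j < totalL L) : ptL L j ∈ unionL L := by
  induction L generalizing j with
  | nil => exact absurd hj (by simp [totalL])
  | cons e L ih =>
    show _ ∈ elems e ∪ unionL L
    by_cases h : j < e.2.1
    · rw [ptL_cons_lt e L h]
      exact Finset.mem_union_left _ (Finset.mem_image_of_mem _ (Finset.mem_range.2 h))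
    · have h' : e.2.1 ≤ j := by omega
      rw [ptL_cons_ge e L h']
      have h2 : j - e.2.1 < totalL L := by
        have : totalL (e :: L) = e.2.1 + totalL L := rfl
        omega
      exact Finset.mem_union_right _ (ih h2)

theorem ptL_surj {L : List Chunk} {x : ℕ} (hx : x ∈ unionL L) : ∃ j < totalL L, ptL L j = x := by
  induction L with
  | nil => simp [unionL] at hx
  | cons e L ih =>
    have hx' : x ∈ elems e ∪ unionL L := hx
    have ht : totalL (e :: L) = e.2.1 + totalL L := rfl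
    rcases Finset.mem_union.1 hx' with h | h
    · obtain ⟨i, hi, rfl⟩ := Finset.mem_image.1 h
      have hi' := Finset.mem_range.1 hi
      exact ⟨i, by omega, ptL_cons_lt e L hi'⟩
    · obtain ⟨j, hj, rfl⟩ := ih h
      refine ⟨e.2.1 + j, by omega, ?_⟩
      rw [ptL_cons_ge e L (by omega)]
      congr 1
      omega

theorem ptL_inj {L : List Chunk} (hL : ∀ e ∈ L, chunkB P e = true) {a b : ℕ}
    (hc : chainB L a b = true) {i j : ℕ} (hi : i < totalL L) (hj : j < totalL L)
    (h : ptL L i = ptL L j) : i = j := by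
  induction L generalizing a i j with
  | nil => exact absurd hi (by simp [totalL])
  | cons e L ih =>
    have h0 : (Nat.ble a e.2.2.1 && chainB L e.2.2.2 b) = true := hc
    simp only [Bool.and_eq_true] at h0
    obtain ⟨h1, h2⟩ := h0
    have hL' : ∀ e' ∈ L, chunkB P e' = true := fun e' he' => hL e' (List.mem_cons_of_mem _ he')
    have he := hL e List.mem_cons_self
    have ht : totalL (e :: L) = e.2.1 + totalL L := rfl
    -- bounds of the two parts
    have hb1 : ∀ k, k < e.2.1 → xOf e.1 k < e.2.2.2 := by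
      intro k hk
      exact (mem_elems_bounds he (Finset.mem_image_of_mem _ (Finset.mem_range.2 hk))).2
    have hb2 : ∀ k, k < totalL L → e.2.2.2 < ptL L k := by
      intro k hk
      exact ((chain_bounds hL' h2).2 _ (ptL_mem hk)).1
    by_cases hi1 : i < e.2.1
    · rw [ptL_cons_lt e L hi1] at h
      by_cases hj1 : j < e.2.1
      · rw [ptL_cons_lt e L hj1] at h
        exact chunk_inj he (Finset.mem_coe.2 (Finset.mem_range.2 hi1))
          (Finset.mem_coe.2 (Finset.mem_range.2 hj1)) h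
      · rw [ptL_cons_ge e L (by omega)] at h
        have := hb1 i hi1
        have := hb2 (j - e.2.1) (by omega)
        omega
    · rw [ptL_cons_ge e L (by omega)] at h
      by_cases hj1 : j < e.2.1
      · rw [ptL_cons_lt e L hj1] at h
        have := hb1 j hj1
        have := hb2 (i - e.2.1) (by omega)
        omega
      · rw [ptL_cons_ge e L (by omega)] at h
        have := ih hL' h2 (i := i - e.2.1) (j := j - e.2.1) (by omega) (by omega) h
        omega

end ptL

/-- The word of an operation of a certificate. -/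
def opWord (tab NT : ℕ) (words : List (List (ℕ × ℕ))) (k : ℕ) : List (ℕ × ℕ) :=
  cond (Nat.blt k NT) [(tabP tab k, tabC tab k)] (words.getD (k - NT) [])

/-! ### Systems of points -/

/-- A complete list of the vectors of a class, indexed by the first `n` numbers. -/
structure PtSys (conds : List (ℕ × ℕ × ℕ)) (R : List ℕ) (n : ℕ) (X : ℕ → ℕ) : Prop where
  hR : ∀ c ∈ conds, c.1 ∈ R ∧ dec c.1 ∈ leechLattice
  hcl : ∀ j < n, Cl 32 conds (dec (X j))
  hlt : ∀ j < n, X j < 2 ^ 120
  hinj : ∀ i < n, ∀ j < n, X i = X j → i = j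
  hcov : ∀ w, Cl 32 conds w → ∃ j < n, dec (X j) = w

/-- The system of points of a certified list. -/
theorem PtSys.of_cert {conds : List (ℕ × ℕ × ℕ)} {R : List ℕ} {root tab NT : ℕ}
    {words : List (List (ℕ × ℕ))} {L : List Chunk} {a b : ℕ}
    (hR : ∀ c ∈ conds, c.1 ∈ R ∧ dec c.1 ∈ leechLattice)
    (hL : ∀ e ∈ L, chunkB (pointB (classB 32 conds) root tab NT words) e = true)
    (hc : chainB L a b = true) (hcov : ∀ w, Cl 32 conds w → ∃ x ∈ unionL L, dec x = w) :
    PtSys conds R (totalL L) (ptL L) where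
  hR := hR
  hcl := fun _ hj => cl_of_chunks hL (ptL_mem hj)
  hlt := fun _ hj => mem_unionL_lt (ptL_mem hj)
  hinj := fun _ hi _ hj h => ptL_inj hL hc hi hj h
  hcov := by
    intro w hw
    obtain ⟨x, hx, rfl⟩ := hcov w hw
    obtain ⟨j, hj, rfl⟩ := ptL_surj hx
    exact ⟨j, hj, rfl⟩

section model

variable {conds : List (ℕ × ℕ × ℕ)} {R : List ℕ} {n : ℕ} {X : ℕ → ℕ}

/-- The class as a set stable under the stabiliser. -/
def clSub (hR : ∀ c ∈ conds, c.1 ∈ R ∧ dec c.1 ∈ leechLattice) : SubMulAction (FixG R) L where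
  carrier := {x : L | Cl 32 conds (x : GolayPt → ℤ)}
  smul_mem' := by
    intro g x hx
    exact Cl_of_rel hR ⟨x.2, g.1, g.2, rfl⟩ hx

/-- The index of a point as an element of the class. -/
def toCl (hS : PtSys conds R n X) (j : Fin n) : clSub hS.hR :=
  ⟨⟨dec (X j), (hS.hcl j j.2).1⟩, hS.hcl j j.2⟩

theorem toCl_bij (hS : PtSys conds R n X) : Function.Bijective (toCl hS) := by
  constructor
  · intro i j h
    have h1 : dec (X i) = dec (X j) := congrArg (fun x => ((x : clSub hS.hR) : L).1) h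
    exact Fin.ext (hS.hinj _ i.2 _ j.2 (dec_inj (hS.hlt _ i.2) (hS.hlt _ j.2) h1))
  · rintro ⟨⟨w, hw⟩, hc⟩
    obtain ⟨j, hj, h⟩ := hS.hcov w hc
    refine ⟨⟨j, hj⟩, Subtype.ext (Subtype.ext h)⟩

/-- The indices are the points of the class. -/
noncomputable def ptEquiv (hS : PtSys conds R n X) : Fin n ≃ clSub hS.hR :=
  Equiv.ofBijective _ (toCl_bij hS)

/-- The action on the indices. -/
noncomputable def rho (hS : PtSys conds R n X) : FixG R →* Equiv.Perm (Fin n) :=
  (Equiv.permCongrHom (ptEquiv hS).symm).toMonoidHom.comp (MulAction.toPermHom (FixG R) (clSub hS.hR))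

theorem rho_spec (hS : PtSys conds R n X) (g : FixG R) {j k : ℕ} (hj : j < n) (hk : k < n)
    (h : ((g.1 • (⟨dec (X j), (hS.hcl j hj).1⟩ : L) : L) : GolayPt → ℤ) = dec (X k)) :
    rho hS g ⟨j, hj⟩ = ⟨k, hk⟩ := by
  show (ptEquiv hS).symm (g • (ptEquiv hS ⟨j, hj⟩)) = ⟨k, hk⟩
  rw [Equiv.symm_apply_eq]
  apply Subtype.ext
  apply Subtype.ext
  exact h

/-- A table on the indices from a word. -/
theorem rho_rp (hS : PtSys conds R n X) (w : List (ℕ × ℕ)) (hw : wG w ∈ FixG R) (T : ℕ → ℕ)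
    (hT : ∀ j < n, T j < n ∧ runW w (X j) (X (T j)) = true) :
    Rp T (rho hS ⟨wG w, hw⟩) := by
  intro j hj
  obtain ⟨h1, h2⟩ := hT j hj
  rw [rho_spec hS ⟨wG w, hw⟩ hj h1 (wG_smul w h2 (hS.hcl j hj).1)]

/-- A table on the indices from a word, as an element of the range. -/
theorem has_of_run (hS : PtSys conds R n X) {w : List (ℕ × ℕ)} (hw : R.all (fun r => runW w r r) = true)
    {F : ℕ → ℕ → ℕ} {g : ℕ} (hT : ∀ j < n, F g j < n ∧ runW w (X j) (X (F g j)) = true) :
    Has F (rho hS).range g :=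
  ⟨_, ⟨⟨wG w, wG_mem_FixG hw⟩, rfl⟩, rho_rp hS w _ (F g) hT⟩

end model

/-! ### From the range to the group -/

/-- The outer automorphisms of a group from a faithful model. -/
theorem out_of_model {K : Type*} [Group K] {n : ℕ} (ρ : K →* Equiv.Perm (Fin n))
    {N out : ℕ} (hN : N ≠ 0) (hK : Nat.card K = N) (hge : N ≤ Nat.card ρ.range)
    (hout : Nat.card ρ.range = N → Nat.card (Out ρ.range) = out) : Nat.card (Out K) = out := by
  haveI : Finite K := Nat.finite_of_card_ne_zero (by rw [hK]; exact hN)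
  have hle : Nat.card ρ.range ≤ Nat.card K := by
    exact Nat.card_le_card_of_surjective ρ.rangeRestrict ρ.rangeRestrict_surjective
  have he : Nat.card ρ.range = N := le_antisymm (hK ▸ hle) hge
  have hinj : Function.Injective ρ := by
    have hs : Function.Surjective ρ.rangeRestrict := ρ.rangeRestrict_surjective
    have hb : Function.Bijective ρ.rangeRestrict :=
      (Nat.bijective_iff_surjective_and_card _).2 ⟨hs, by rw [hK, he]⟩
    intro x y h
    exact hb.1 (Subtype.ext h)
  rw [card_out_congr (MonoidHom.ofInjective hinj)]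
  exact hout he

/-! ### Orders of the stabilisers -/

/-- Orbit-stabiliser for a class. -/
theorem card_step {conds : List (ℕ × ℕ × ℕ)} {R R' : List ℕ} {x m : ℕ}
    (hR : ∀ c ∈ conds, c.1 ∈ R ∧ dec c.1 ∈ leechLattice)
    (hR' : ∀ r, r ∈ R' ↔ r = x ∨ r ∈ R)
    (hx : Cl 32 conds (dec x))
    (hrel : ∀ w, Cl 32 conds w → Rel (FixG R) w (dec x))
    (hm : {w | Cl 32 conds w}.ncard = m) :
    Nat.card (FixG R') * m = Nat.card (FixG R) := by
  set v : L := ⟨dec x, hx.1⟩ with hv
  have hle : FixG R' ≤ FixG R := fun g hg r hr hr' => hg r ((hR' r).2 (Or.inr hr)) hr'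
  have h1 : MulAction.stabilizer (FixG R) v = (FixG R').subgroupOf (FixG R) := by
    ext g
    rw [Subgroup.mem_subgroupOf, MulAction.mem_stabilizer_iff]
    constructor
    · intro h r hr hr'
      rcases (hR' r).1 hr with rfl | hr2
      · exact h
      · exact g.2 r hr2 hr'
    · intro h
      exact h x ((hR' x).2 (Or.inl rfl)) hx.1
  have h2 : Nat.card (MulAction.stabilizer (FixG R) v) = Nat.card (FixG R') := by
    rw [h1]
    exact Nat.card_congr (Subgroup.subgroupOfEquivOfLe hle).toEquiv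
  have h3 : MulAction.orbit (FixG R) v = {y : L | Cl 32 conds (y : GolayPt → ℤ)} := by
    ext y
    simp only [MulAction.mem_orbit_iff, Set.mem_setOf_eq]
    constructor
    · rintro ⟨g, rfl⟩
      exact Cl_of_rel hR ⟨v.2, g.1, g.2, rfl⟩ hx
    · intro hy
      obtain ⟨g, hg, h⟩ := rel_iff.1 (show Rel (FixG R) (y : GolayPt → ℤ) (v : L).1 from hrel _ hy)
      refine ⟨⟨g, hg⟩⁻¹, ?_⟩
      show g⁻¹ • v = y
      rw [inv_smul_eq_iff, h]
  rw [← h2, ← hm, ← ncard_L_Cl, ← h3, ← MulAction.index_stabilizer]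
  exact Subgroup.card_mul_index _

/-- The stabiliser of one vector. -/
theorem card_FixG_one {x : ℕ} (hx : dec x ∈ leechLattice) :
    Nat.card (FixG [x]) = Nat.card (MulAction.stabilizer Co0 (⟨dec x, hx⟩ : L)) := by
  have h : FixG [x] = MulAction.stabilizer Co0 (⟨dec x, hx⟩ : L) := by
    ext g
    rw [MulAction.mem_stabilizer_iff]
    constructor
    · intro h
      exact h x (by simp) hx
    · intro h r hr hr'
      have : r = x := by simpa using hr
      subst this
      exact h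
  rw [h]

/-! ### Conjugating a configuration to the reference configuration -/

/-- A configuration and the stabiliser of its image. -/
theorem iso_of_maps {t : Co0} {l : List (L × ℕ)} (ht : Maps t l) {R : List ℕ}
    (hR1 : ∀ p ∈ l, p.2 ∈ R) (hR2 : ∀ r ∈ R, ∃ p ∈ l, p.2 = r)
    (A : Subgroup (Equiv.Perm L))
    (hA : ∀ g : Equiv.Perm L, g ∈ A ↔ ∃ hg : g ∈ Co0, ∀ p ∈ l, (⟨g, hg⟩ : Co0) • p.1 = p.1) :
    Nonempty (A ≃* FixG R) := by
  have hle : A ≤ Co0 := fun g hg => ((hA g).1 hg).1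
  have hfwd : ∀ g : A, t * ⟨g.1, hle g.2⟩ * t⁻¹ ∈ FixG R := by
    rintro ⟨g, hg⟩ r hr hr'
    obtain ⟨h1, h2⟩ := (hA g).1 hg
    obtain ⟨p, hp, rfl⟩ := hR2 r hr
    have h3 := h2 p hp
    have h4 := ht.eq hp
    rw [mul_smul, mul_smul]
    have h5 : (⟨dec p.2, hr'⟩ : L) = t • p.1 := h4.symm
    rw [h5, inv_smul_smul, h3]
  have hbwd : ∀ g : FixG R, (t⁻¹ * g.1 * t : Co0).1 ∈ A := by
    rintro ⟨g, hg⟩
    refine (hA _).2 ⟨(t⁻¹ * g * t).2, fun p hp => ?_⟩
    exact ht.conj_fix hR1 hg hp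
  refine ⟨{ toFun := fun g => ⟨_, hfwd g⟩
            invFun := fun g => ⟨_, hbwd g⟩
            left_inv := ?_
            right_inv := ?_
            map_mul' := ?_ }⟩
  · rintro ⟨g, hg⟩
    apply Subtype.ext
    show ((t⁻¹ * (t * ⟨g, hle hg⟩ * t⁻¹) * t : Co0) : Equiv.Perm L) = g
    have : (t⁻¹ * (t * ⟨g, hle hg⟩ * t⁻¹) * t : Co0) = ⟨g, hle hg⟩ := by group
    rw [this]
  · rintro ⟨g, hg⟩
    apply Subtype.ext
    show (t * (⟨(t⁻¹ * g * t : Co0).1, _⟩ : Co0) * t⁻¹ : Co0) = g
    have : (⟨(t⁻¹ * g * t : Co0).1, (t⁻¹ * g * t).2⟩ : Co0) = t⁻¹ * g * t := rfl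
    calc (t * (⟨(t⁻¹ * g * t : Co0).1, _⟩ : Co0) * t⁻¹ : Co0) = t * (t⁻¹ * g * t) * t⁻¹ := rfl
      _ = g := by group
  · rintro ⟨a, ha⟩ ⟨b, hb⟩
    apply Subtype.ext
    show t * (⟨a * b, _⟩ : Co0) * t⁻¹ = (t * ⟨a, hle ha⟩ * t⁻¹) * (t * ⟨b, hle hb⟩ * t⁻¹)
    have : (⟨a * b, Co0.mul_mem (hle ha) (hle hb)⟩ : Co0) = ⟨a, hle ha⟩ * ⟨b, hle hb⟩ := rfl
    rw [show (⟨a * b, _⟩ : Co0) = ⟨a, hle ha⟩ * ⟨b, hle hb⟩ from rfl]
    group

end Cfsg.Agent.Lib.PermComp.Conway
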