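import Cfsg.Agent.Lib.PermComp.Conway.Models
import Cfsg.Agent.Lib.PermComp.OutP.Co2o.Data
import Cfsg.Agent.Lib.Leech.CertBase

/-!
# A permutation model of the group `Co2`: the action on 4600 lattice vectors
-/

set_option autoImplicit false
set_option maxRecDepth 100000
open Cfsg

namespace Cfsg.Agent.Lib.PermComp.Conway.MCo2

open Cfsg.Agent.Lib.PermComp Cfsg.Agent.Lib.PermComp.OutP Cfsg.Agent.Lib.PermComp.Conway
open Cfsg.Agent.Lib.Leech Cfsg.Agent.Lib.Leech.Cert Cfsg.Agent.Lib.Leech.CertData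
  Cfsg.Agent.Lib.Leech.CertBase Cfsg.Agent.Lib.Leech.CertLev Cfsg.Agent.Lib.Leech.CertRefs
  Cfsg.Agent.Lib.Leech.Word
open Cfsg.Agent.Lib.Leech.Basic Cfsg.Agent.Lib.Leech.Vec
open Cfsg.Agent.Lib.PermComp.Kron (rangeAll rangeAll_spec)

/-- The word of the first generator. -/
def w0 : List (ℕ × ℕ) := opWord tab16 NT16 words16 214

/-- The word of the second generator. -/
def w1 : List (ℕ × ℕ) := opWord tab16 NT16 words16 134

theorem hw0 : [nV1].all (fun r => runW w0 r r) = true := by decide +kernel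

theorem hw1 : [nV1].all (fun r => runW w1 r r) = true := by decide +kernel

theorem ck0 : rangeAll (fun j => Core.ifB (Nat.blt (OutP.Co2o.F 72 j) 4600)
    (runW w0 (ptL L16 j) (ptL L16 (OutP.Co2o.F 72 j)))) 0 4600 = true := by decide +kernel

theorem ck1 : rangeAll (fun j => Core.ifB (Nat.blt (OutP.Co2o.F 73 j) 4600)
    (runW w1 (ptL L16 j) (ptL L16 (OutP.Co2o.F 73 j)))) 0 4600 = true := by decide +kernel

theorem hR16 : ∀ c ∈ ([(nV1, 16, 0)] : List (ℕ × ℕ × ℕ)), c.1 ∈ [nV1] ∧ dec c.1 ∈ leechLattice := by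
  intro c hc
  simp only [List.mem_cons, List.not_mem_nil, or_false] at hc
  subst hc
  exact ⟨by simp, nV1_mem⟩

theorem hS : PtSys [(nV1, 16, 0)] [nV1] 4600 (ptL L16) := by
  have h := PtSys.of_cert hR16 all16 chain16 (fun _ hw => mem_U16_of hw)
  rwa [total16] at h

theorem hX (g : ℕ) (h1 : 72 ≤ g) (h2 : g < 74) : Has OutP.Co2o.F (rho hS).range g := by
  have hg : g = 72 ∨ g = 73 := by omega
  rcases hg with rfl | rfl
  · refine has_of_run hS hw0 fun j hj => ?_
    have h := rangeAll_spec ck0 j (Nat.zero_le _) (by omega)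
    rw [Core.ifB_eq_true] at h
    exact ⟨blt_lt h.1, h.2⟩
  · refine has_of_run hS hw1 fun j hj => ?_
    have h := rangeAll_spec ck1 j (Nat.zero_le _) (by omega)
    rw [Core.ifB_eq_true] at h
    exact ⟨blt_lt h.1, h.2⟩

end Cfsg.Agent.Lib.PermComp.Conway.MCo2
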