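import Cfsg.Agent.Lib.PermComp.Conway.Models
import Cfsg.Agent.Lib.PermComp.OutP.McLo.Data


/-!
# A permutation model of the group `McL`: the action on 275 lattice vectors
-/

set_option autoImplicit false
set_option maxRecDepth 100000
open Cfsg

namespace Cfsg.Agent.Lib.PermComp.Conway.MMcL

open Cfsg.Agent.Lib.PermComp Cfsg.Agent.Lib.PermComp.OutP Cfsg.Agent.Lib.PermComp.Conway
open Cfsg.Agent.Lib.Leech Cfsg.Agent.Lib.Leech.Cert Cfsg.Agent.Lib.Leech.CertData
  Cfsg.Agent.Lib.Leech.CertBase Cfsg.Agent.Lib.Leech.CertLev Cfsg.Agent.Lib.Leech.CertRefs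
  Cfsg.Agent.Lib.Leech.Word
open Cfsg.Agent.Lib.PermComp.Kron (rangeAll rangeAll_spec)

/-- The word of the first generator. -/
def w0 : List (ℕ × ℕ) := opWord CertC275.tab CertC275.NT CertC275.words 1

/-- The word of the second generator. -/
def w1 : List (ℕ × ℕ) := opWord CertC275.tab CertC275.NT CertC275.words 42

theorem hw0 : [nU0, nV1].all (fun r => runW w0 r r) = true := by decide +kernel

theorem hw1 : [nU0, nV1].all (fun r => runW w1 r r) = true := by decide +kernel

theorem ck0 : rangeAll (fun j => Core.ifB (Nat.blt (OutP.McLo.F 63 j) 275)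
    (runW w0 (ptL CertC275.L j) (ptL CertC275.L (OutP.McLo.F 63 j)))) 0 275 = true := by decide +kernel

theorem ck1 : rangeAll (fun j => Core.ifB (Nat.blt (OutP.McLo.F 64 j) 275)
    (runW w1 (ptL CertC275.L j) (ptL CertC275.L (OutP.McLo.F 64 j)))) 0 275 = true := by decide +kernel


theorem hS : PtSys CertC275.conds [nU0, nV1] 275 (ptL CertC275.L) := by
  have h := PtSys.of_cert CertC275.hR CertC275.all CertC275.chain CertC275.cover
  rwa [CertC275.total] at h

theorem hX (g : ℕ) (h1 : 63 ≤ g) (h2 : g < 65) : Has OutP.McLo.F (rho hS).range g := by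
  have hg : g = 63 ∨ g = 64 := by omega
  rcases hg with rfl | rfl
  · refine has_of_run hS hw0 fun j hj => ?_
    have h := rangeAll_spec ck0 j (Nat.zero_le _) (by omega)
    rw [Core.ifB_eq_true] at h
    exact ⟨blt_lt h.1, h.2⟩
  · refine has_of_run hS hw1 fun j hj => ?_
    have h := rangeAll_spec ck1 j (Nat.zero_le _) (by omega)
    rw [Core.ifB_eq_true] at h
    exact ⟨blt_lt h.1, h.2⟩

end Cfsg.Agent.Lib.PermComp.Conway.MMcL
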