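import Cfsg.Agent.Lib.PermComp.Conway.Act
import Cfsg.Prelude.Def_Spor_Conway

/-!
# The stabilisers of the definitions as stabilisers of reference vectors, with their orders
-/

set_option autoImplicit false

namespace Cfsg.Agent.Lib.PermComp.Conway

open Cfsg Cfsg.Agent.Lib.Golay.Core Cfsg.Agent.Lib.Leech.Basic Cfsg.Agent.Lib.Leech.Vec
  Cfsg.Agent.Lib.Leech.Cert Cfsg.Agent.Lib.Leech.CertData Cfsg.Agent.Lib.Leech.CertBase
  Cfsg.Agent.Lib.Leech.CertLev Cfsg.Agent.Lib.Leech.Word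
  Cfsg.Agent.Lib.Leech.Lat Cfsg.Agent.Lib.Leech.Reach Cfsg.Agent.Lib.Leech.Order
  Cfsg.Agent.Lib.Leech.Trans Cfsg.Agent.Lib.Leech.ConfigB
  Cfsg.Agent.Lib.Leech.ConfigM Cfsg.Agent.Lib.Leech.ConfigH Cfsg.Agent.Lib.Leech.CertRefs
open Cfsg.Agent.Lib.Leech

/-! ### Orders -/

theorem card_Fix_U : Nat.card (FixG [nU0]) = 495766656000 := by
  rw [card_FixG_one nU0_mem]
  exact card_stab48 sq_uL

theorem card_Fix_V : Nat.card (FixG [nV1]) = 42305421312000 := by
  rw [card_FixG_one nV1_mem]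
  exact card_stab32 nV1_sq

theorem card_Fix_McL : Nat.card (FixG [nU0, nV1]) = 898128000 := by
  have h := card_step (R := [nU0]) (R' := [nU0, nV1]) (x := nV1) CertC24.hR
    (fun r => by simp only [List.mem_cons, List.not_mem_nil, or_false]; tauto) ConfigM.nV1_cl
    (fun w hw => (CertC24.rel hw).trans (CertC24.rel ConfigM.nV1_cl).symm) CertC24.ncard_eq
  rw [card_Fix_U] at h
  exact Nat.eq_of_mul_eq_mul_right (by norm_num : 0 < 552) (h.trans (by norm_num))

theorem card_Fix_HS : Nat.card (FixG [nU0, nX1]) = 44352000 := by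
  have h := card_step (R := [nU0]) (R' := [nU0, nX1]) (x := nX1) CertC16.hR
    (fun r => by simp only [List.mem_cons, List.not_mem_nil, or_false]; tauto) ConfigH.nX1_cl
    (fun w hw => (CertC16.rel hw).trans (CertC16.rel ConfigH.nX1_cl).symm) CertC16.ncard_eq
  rw [card_Fix_U] at h
  exact Nat.eq_of_mul_eq_mul_right (by norm_num : 0 < 11178) (h.trans (by norm_num))

/-! ### The explicit vectors -/

theorem sq_V : sqNorm (Spor.leechV : GolayPt → ℤ) = 48 := by decide +kernel
theorem sq_U : sqNorm (Spor.leechU : GolayPt → ℤ) = 32 := by decide +kernel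
theorem sq_U' : sqNorm (Spor.leechU' : GolayPt → ℤ) = 32 := by decide +kernel
theorem dot_VU : dotInt (Spor.leechV : GolayPt → ℤ) (Spor.leechU : GolayPt → ℤ) = -24 := by
  decide +kernel
theorem dot_VU' : dotInt (Spor.leechV : GolayPt → ℤ) (Spor.leechU' : GolayPt → ℤ) = -16 := by
  decide +kernel

/-- An element of the lattice group is determined as a permutation. -/
theorem smul_coe (g : Equiv.Perm L) (hg : g ∈ Co0) (v : L) : (⟨g, hg⟩ : Co0) • v = g v := rfl

theorem smul_neg_iff (g : Co0) (v : L) : g • (-v) = -v ↔ g • v = v := by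
  rw [Lat.smul_neg, neg_inj]

/-! ### The isomorphisms -/

theorem iso_Co3 : Nonempty (Spor.Co3 ≃* FixG [nU0]) := by
  obtain ⟨t, ht⟩ := exists_to_u Spor.leechV sq_V
  refine iso_of_maps ht (by simp) (by simp) Spor.Co3 fun g => ?_
  constructor
  · rintro ⟨h1, h2⟩
    refine ⟨h1, fun p hp => ?_⟩
    have hp' : p = (Spor.leechV, nU0) := by simpa using hp
    subst hp'
    exact h2
  · rintro ⟨h1, h2⟩
    exact ⟨h1, h2 (Spor.leechV, nU0) (by simp)⟩

theorem iso_Co2 : Nonempty (Spor.Co2 ≃* FixG [nV1]) := by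
  have hV : sqNorm ((⟨dec nV1, nV1_mem⟩ : L) : GolayPt → ℤ) = 32 := nV1_sq
  obtain ⟨t, ht⟩ := trans32 Spor.leechU ⟨dec nV1, nV1_mem⟩ sq_U hV
  have hm : Maps t [(Spor.leechU, nV1)] := by
    intro p hp
    have hp' : p = (Spor.leechU, nV1) := by simpa using hp
    subst hp'
    show ((t • Spor.leechU : L) : GolayPt → ℤ) = dec nV1
    rw [ht]
  refine iso_of_maps hm (by simp) (by simp) Spor.Co2 fun g => ?_
  constructor
  · rintro ⟨h1, h2⟩
    refine ⟨h1, fun p hp => ?_⟩
    have hp' : p = (Spor.leechU, nV1) := by simpa using hp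
    subst hp'
    exact h2
  · rintro ⟨h1, h2⟩
    exact ⟨h1, h2 (Spor.leechU, nV1) (by simp)⟩

theorem iso_McL : Nonempty (Spor.McL ≃* FixG [nU0, nV1]) := by
  have hmem : (-Spor.leechU : L) ∈ Xu Spor.leechV := by
    constructor
    · show sqNorm (-(Spor.leechU : GolayPt → ℤ)) = 32
      decide +kernel
    · show sqNorm ((Spor.leechV : GolayPt → ℤ) - (-(Spor.leechU : GolayPt → ℤ))) = 32
      decide +kernel
  obtain ⟨t, ht⟩ := exists_to_uv sq_V hmem
  refine iso_of_maps ht (by simp) (by simp) Spor.McL fun g => ?_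
  constructor
  · rintro ⟨⟨h1, h2⟩, h3⟩
    refine ⟨h1, fun p hp => ?_⟩
    simp only [List.mem_cons, List.not_mem_nil, or_false] at hp
    rcases hp with rfl | rfl
    · exact (smul_neg_iff ⟨g, h1⟩ _).2 h3
    · exact h2
  · rintro ⟨h1, h2⟩
    refine ⟨⟨h1, h2 (Spor.leechV, nU0) (by simp)⟩, ?_⟩
    exact (smul_neg_iff ⟨g, h1⟩ _).1 (h2 (-Spor.leechU, nV1) (by simp))

/-- The second vector of the Higman-Sims pair. -/
def leechW : L := -Spor.leechU' - Spor.leechV

theorem sq_W : sqNorm (leechW : GolayPt → ℤ) = 48 := by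
  show sqNorm (-(Spor.leechU' : GolayPt → ℤ) - (Spor.leechV : GolayPt → ℤ)) = 48
  decide +kernel

theorem dot_VW : dotInt (Spor.leechV : GolayPt → ℤ) (leechW : GolayPt → ℤ) = -32 := by
  show dotInt (Spor.leechV : GolayPt → ℤ) (-(Spor.leechU' : GolayPt → ℤ) - (Spor.leechV : GolayPt → ℤ)) = -32
  decide +kernel

theorem add_VW : Spor.leechV + leechW = -Spor.leechU' := by
  unfold leechW
  abel

theorem iso_HS : Nonempty (Spor.HS ≃* FixG [nU0, nX1]) := by
  obtain ⟨t, ht⟩ := ConfigH.exists_to_pair sq_V sq_W dot_VW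
  rw [add_VW] at ht
  -- the reference pair is listed in the other order
  have hm : Maps t [(-Spor.leechU', nX1), (Spor.leechV, nU0)] := ht
  refine iso_of_maps hm ?_ ?_ Spor.HS fun g => ?_
  · intro p hp
    simp only [List.mem_cons, List.not_mem_nil, or_false] at hp
    rcases hp with rfl | rfl <;> simp
  · intro r hr
    simp only [List.mem_cons, List.not_mem_nil, or_false] at hr
    rcases hr with rfl | rfl
    · exact ⟨(Spor.leechV, nU0), by simp, rfl⟩
    · exact ⟨(-Spor.leechU', nX1), by simp, rfl⟩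
  constructor
  · rintro ⟨⟨h1, h2⟩, h3⟩
    refine ⟨h1, fun p hp => ?_⟩
    simp only [List.mem_cons, List.not_mem_nil, or_false] at hp
    rcases hp with rfl | rfl
    · exact (smul_neg_iff ⟨g, h1⟩ _).2 h3
    · exact h2
  · rintro ⟨h1, h2⟩
    refine ⟨⟨h1, h2 (Spor.leechV, nU0) (by simp)⟩, ?_⟩
    exact (smul_neg_iff ⟨g, h1⟩ _).1 (h2 (-Spor.leechU', nX1) (by simp))

end Cfsg.Agent.Lib.PermComp.Conway
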